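import Cfsg.Agent.Lib.Sporadic.HNAlt.Data
import Cfsg.Agent.Lib.Sporadic.HNRep.Hom

/-! The matrices of an alternating subgroup, as a family (helper24). -/

set_option autoImplicit false
set_option maxRecDepth 20000

namespace CfsgLib.Sporadic.HNAlt

open CfsgLib.Sporadic.HNRep

/-- the letters, the nine-cycle, the three-cycle, the cube of the nine-cycle, four conjugate three-cycles -/
def amats (x : ℕ) : List (List ℕ) :=
  ([rows0, rows1, rows2, rows3, rows4, rows5, rows6, rows7, Alt.rowsG, Alt.rowsX, Alt.rowsG3, Alt.rowsX1,
    Alt.rowsX2, Alt.rowsX3, Alt.rowsX4] : List (List (List ℕ))).getD x []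

theorem amats_ok : ((List.range 15).all fun x => rowsOK 133 (amats x)) = true := by decide +kernel

theorem rowsOK_amats {x : ℕ} (hx : x < 15) : rowsOK 133 (amats x) = true :=
  List.all_eq_true.1 amats_ok x (List.mem_range.2 hx)

theorem amats_small {x : ℕ} (hx : x < 8) : amats x = mats x := by
  interval_cases x <;> rfl

end CfsgLib.Sporadic.HNAlt
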