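import Cfsg.Agent.Lib.Sporadic.HNAlt.Base

/-! Checks of relations between the matrices of an alternating subgroup (helper24). -/

set_option autoImplicit false
set_option maxRecDepth 20000
set_option Elab.async false

namespace CfsgLib.Sporadic.HNAlt

open CfsgLib.Sporadic.HNRep

theorem x_cube : evalWord mask amats [9, 9, 9] = idEnc := by decide +kernel

theorem ax_sq : evalWord mask amats [2, 2, 9, 2, 2, 9] = idEnc := by decide +kernel

theorem ga_comm : evalWord mask amats [8, 2, 2] = evalWord mask amats [2, 2, 8] := by decide +kernel

theorem a_cube : evalWord mask amats [2, 2, 2, 2, 2, 2] = evalWord mask amats [] := by decide +kernel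

theorem a_ne : evalWord mask amats [2, 2] ≠ idEnc := by decide +kernel

end CfsgLib.Sporadic.HNAlt
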