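import Cfsg.Agent.Lib.Sporadic.HNAlt.Base

/-! Checks of relations between the matrices of an alternating subgroup (helper24). -/

set_option autoImplicit false
set_option maxRecDepth 20000
set_option Elab.async false

namespace CfsgLib.Sporadic.HNAlt

open CfsgLib.Sporadic.HNRep

theorem pair1 : evalWord mask amats [9, 11, 9, 11] = idEnc := by decide +kernel

theorem pair2 : evalWord mask amats [9, 12, 9, 12] = idEnc := by decide +kernel

end CfsgLib.Sporadic.HNAlt
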