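import Cfsg.Agent.Lib.Sporadic.HNAlt.Relations
import Cfsg.Agent.Lib.Sporadic.HNLower.Simple
import Cfsg.Prelude.Def_Sporadic
import Mathlib.GroupTheory.SpecificGroups.Alternating.Simple

/-! The presented group as a permutation group on the cosets of an alternating subgroup (helper24). -/

set_option autoImplicit false
set_option maxRecDepth 20000

namespace CfsgLib.Sporadic.HNAlt

open Cfsg CfsgLib.Sporadic
open CfsgLib.Sporadic.HNRep (rho unit)

theorem hom_injective {A B : Type*} [Group A] [Group B] (hA : IsSimpleGroup A) (f : A →* B) {a : A}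
    (ha : f a ≠ 1) : Function.Injective f := by
  rcases hA.eq_bot_or_eq_top_of_normal f.ker inferInstance with h | h
  · exact (MonoidHom.ker_eq_bot_iff f).1 h
  · exact absurd (MonoidHom.mem_ker.1 (show a ∈ f.ker by rw [h]; exact Subgroup.mem_top a)) ha

theorem rho_injective : Function.Injective rho := by
  refine hom_injective HNLower.simple rho (a := HNCoset.gl 0 * HNCoset.gl 0) ?_
  rw [map_mul, HNLower.rho_gl (by norm_num)]
  exact HNRep.unit_sq_ne

/-- An alternating subgroup of degree twelve. -/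
theorem exists_alt : ∃ K : Subgroup Spor.HN, Nonempty (alternatingGroup (Fin 12) ≃* K) := by
  obtain ⟨f, a, ha⟩ := exists_altHom rho_injective
  have hs : IsSimpleGroup (alternatingGroup (Fin 12)) := alternatingGroup.isSimpleGroup (by simp)
  exact ⟨f.range, ⟨MonoidHom.ofInjective (hom_injective hs f (a := a) (by rw [ha]; exact elA_ne_one))⟩⟩

theorem card_alt : Nat.card (alternatingGroup (Fin 12)) = 239500800 := by
  rw [nat_card_alternatingGroup, Nat.card_eq_fintype_card, Fintype.card_fin]
  decide +kernel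

/-- A simple group acting on the cosets of a subgroup. -/
theorem exists_perm {G : Type*} [Group G] (hG : IsSimpleGroup G) (K : Subgroup G) {n : ℕ} [NeZero n]
    (hn : 1 < n) (hK : K.index = n) :
    ∃ H : Subgroup (Equiv.Perm (Fin n)), Nonempty (G ≃* H) ∧ MulAction.IsPretransitive H (Fin n) ∧
      Nonempty (MulAction.stabilizer H (0 : Fin n) ≃* K) := by
  have hc : Nat.card (G ⧸ K) = n := hK
  have : Finite (G ⧸ K) := Nat.finite_of_card_ne_zero (by omega)
  let e0 := Finite.equivFinOfCardEq hc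
  let e : G ⧸ K ≃ Fin n := e0.trans (Equiv.swap (e0 (QuotientGroup.mk 1)) 0)
  have he : e (QuotientGroup.mk 1) = 0 := by simp [e]
  let ψ : G →* Equiv.Perm (Fin n) :=
    { toFun := fun g => e.permCongr (MulAction.toPermHom G (G ⧸ K) g)
      map_one' := by ext; simp
      map_mul' := fun a b => by ext; simp [mul_smul] }
  have hψ : ∀ (g : G) (c : G ⧸ K), ψ g (e c) = e (g • c) := fun g c => by simp [ψ]
  have hinj : Function.Injective ψ := by
    obtain ⟨a, ha⟩ : ∃ a : G, a ∉ K := by
      by_contra hne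
      push Not at hne
      rw [show K = ⊤ from eq_top_iff.2 fun g _ => hne g, Subgroup.index_top] at hK
      omega
    refine hom_injective hG ψ (a := a) fun h => ha ?_
    have := hψ a (QuotientGroup.mk 1)
    rw [h, Equiv.Perm.one_apply, e.injective.eq_iff, MulAction.Quotient.smul_mk, smul_eq_mul, mul_one,
      eq_comm, QuotientGroup.eq, mul_one, inv_mem_iff] at this
    exact this
  refine ⟨ψ.range, ⟨MonoidHom.ofInjective hinj⟩, ⟨fun x y => ?_⟩, ?_⟩
  · obtain ⟨c, rfl⟩ := e.surjective x
    obtain ⟨d, rfl⟩ := e.surjective y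
    obtain ⟨g, hg⟩ := MulAction.exists_smul_eq G c d
    exact ⟨⟨ψ g, g, rfl⟩, (hψ g c).trans (congrArg e hg)⟩
  · have hmem : ∀ g : G, ψ g 0 = 0 ↔ g ∈ K := fun g => by
      rw [← he, hψ, e.injective.eq_iff, MulAction.Quotient.smul_mk, smul_eq_mul, mul_one, eq_comm,
        QuotientGroup.eq, inv_one, one_mul]
    let φ : K →* MulAction.stabilizer ψ.range (0 : Fin n) :=
      { toFun := fun k => ⟨⟨ψ k, k, rfl⟩, MulAction.mem_stabilizer_iff.2 ((hmem k).2 k.2)⟩
        map_one' := Subtype.ext (Subtype.ext (map_one ψ))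
        map_mul' := fun a b => Subtype.ext (Subtype.ext (map_mul ψ a.1 b.1)) }
    refine ⟨(MulEquiv.ofBijective φ ⟨fun a b h => ?_, ?_⟩).symm⟩
    · exact Subtype.ext (hinj (congrArg (fun z => (z.1.1 : Equiv.Perm (Fin n))) h))
    · rintro ⟨⟨p, g, rfl⟩, hp⟩
      exact ⟨⟨g, (hmem g).1 hp⟩, rfl⟩

theorem exists_realisation : ∃ H : Subgroup (Equiv.Perm (Fin 1140000)), Cfsg.IsHN H ∧
    MulAction.IsPretransitive H (Fin 1140000) ∧
    Nonempty (MulAction.stabilizer H (0 : Fin 1140000) ≃* alternatingGroup (Fin 12)) := by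
  obtain ⟨K, ⟨eK⟩⟩ := exists_alt
  have hK : K.index = 1140000 := by
    have h := K.index_mul_card
    rw [← Nat.card_congr eK.toEquiv, card_alt, HNLower.card_eq] at h
    omega
  obtain ⟨H, ⟨eH⟩, ht, ⟨eS⟩⟩ := exists_perm HNLower.simple K (by norm_num) hK
  have := HNLower.simple
  exact ⟨H, ⟨eH.symm.isSimpleGroup, (Nat.card_congr eH.toEquiv).symm.trans HNLower.card_eq⟩, ht,
    ⟨eS.trans eK.symm⟩⟩

end CfsgLib.Sporadic.HNAlt
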