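import Cfsg.Agent.Lib.Sporadic.HNAlt.CheckA
import Cfsg.Agent.Lib.Sporadic.HNAlt.CheckB
import Cfsg.Agent.Lib.Sporadic.HNAlt.CheckC
import Cfsg.Agent.Lib.Sporadic.HNAlt.CheckD
import Cfsg.Agent.Lib.Sporadic.HNAlt.CheckE
import Cfsg.Agent.Lib.Sporadic.HNAlt.CheckF
import Cfsg.Agent.Lib.Sporadic.HNAlt.CheckG
import Cfsg.Agent.Lib.Sporadic.HNLower.Cert
import Cfsg.Agent.Lib.Perm.AltBounded.Carmichael

/-! The generators of an alternating subgroup of the presented group, and their relations (helper24). -/

set_option autoImplicit false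
set_option maxRecDepth 20000
set_option linter.unusedSimpArgs false

namespace CfsgLib.Sporadic.HNAlt

open Cfsg CfsgLib.Sporadic CfsgLib.Sporadic.HNGroup
open CfsgLib.Sporadic.HNRep (rho unit mat evalWord mask mats Mat toMat enc idEnc enc_injective)
open CfsgLib.Sporadic.HNCoset (gl ev)
open CfsgLib.Perm.AltBounded

/-- the commuting three-cycle -/
noncomputable def elA : Spor.HN := ev [2, 2]
/-- the three-cycle -/
noncomputable def elX : Spor.HN := ev Alt.xWord
/-- the nine-cycle -/
noncomputable def elG : Spor.HN := ev Alt.gWord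
/-- conjugation by a power of the nine-cycle -/
noncomputable def sh (k : ℕ) : Spor.HN →* Spor.HN := (MulAut.conj (elG ^ k)).toMonoidHom
/-- the conjugate three-cycles -/
noncomputable def elY (k : ℕ) : Spor.HN := sh k elX

/-- the matrix of an element -/
noncomputable def R (g : Spor.HN) : Mat 133 := ((rho g : (Mat 133)ˣ) : Mat 133)

theorem R_mul (g h : Spor.HN) : R (g * h) = R g * R h := by simp [R]

theorem R_one : R 1 = 1 := by simp [R]

/-- the matrix of a symbol -/
noncomputable def M (x : ℕ) : Mat 133 := toMat 133 (amats x)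

theorem eq_of {u v : List ℕ} (hu : ∀ x ∈ u, x < 15) (hv : ∀ x ∈ v, x < 15)
    (h : evalWord mask amats u = evalWord mask amats v) : (u.map M).prod = (v.map M).prod := by
  rw [show mask = HNRep.maskN 133 from rfl, HNRep.evalWord_eq fun x hx => rowsOK_amats (hu x hx),
    HNRep.evalWord_eq fun x hx => rowsOK_amats (hv x hx)] at h
  exact enc_injective h

theorem eq_one_of {u : List ℕ} (hu : ∀ x ∈ u, x < 15) (h : evalWord mask amats u = idEnc) :
    (u.map M).prod = 1 :=
  eq_of (v := []) hu (by simp) h

theorem R_gl {x : ℕ} (hx : x < 8) : R (gl x) = M x := by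
  rw [R, HNLower.rho_gl hx, HNRep.unit_val hx, M, amats_small hx]
  rfl

theorem R_ev : ∀ {w : List ℕ}, (∀ x ∈ w, x < 8) → R (ev w) = (w.map M).prod
  | [], _ => by simp [HNCoset.ev_nil, R_one]
  | x :: w, h => by
    rw [HNCoset.ev_cons, R_mul, R_ev fun y hy => h y (List.mem_cons_of_mem _ hy), R_gl (h x List.mem_cons_self),
      List.map_cons, List.prod_cons]

theorem prod_one' {N : Type*} [Monoid N] (f : ℕ → N) (a : ℕ) : ([a].map f).prod = f a := by simp

theorem prod_two {N : Type*} [Monoid N] (f : ℕ → N) (a b : ℕ) : ([a, b].map f).prod = f a * f b := by simp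

theorem prod_three {N : Type*} [Monoid N] (f : ℕ → N) (a b c : ℕ) :
    ([a, b, c].map f).prod = f a * (f b * f c) := by simp

theorem prod_four {N : Type*} [Monoid N] (f : ℕ → N) (a b c d : ℕ) :
    ([a, b, c, d].map f).prod = f a * (f b * (f c * f d)) := by simp

theorem prod_six {N : Type*} [Monoid N] (f : ℕ → N) (a b c d e g : ℕ) :
    ([a, b, c, d, e, g].map f).prod = f a * (f b * (f c * (f d * (f e * f g)))) := by simp

theorem prod_zero' {N : Type*} [Monoid N] (f : ℕ → N) : (([] : List ℕ).map f).prod = 1 := by simp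

theorem prod_aa : M 2 * M 2 = R elA := by
  rw [elA, R_ev (by decide), prod_two]

theorem M_eight : M 8 = R elG := by
  rw [elG, R_ev (by decide), eq_of (by decide) (by decide) g_check, prod_one']

theorem M_nine : M 9 = R elX := by
  rw [elX, R_ev (by decide), eq_of (by decide) (by decide) x_check, prod_one']

theorem M_ten : M 10 = R (elG * elG * elG) := by
  have h := eq_of (u := [8, 8, 8]) (v := [10]) (by decide) (by decide) g_cube
  simp only [prod_one', prod_two, prod_three, prod_four, prod_six, prod_zero', M_eight] at h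
  rw [← h, R_mul, R_mul, mul_assoc]

theorem sh_apply (k : ℕ) (g : Spor.HN) : sh k g = elG ^ k * g * (elG ^ k)⁻¹ := rfl

theorem sh_elY (i k : ℕ) : sh i (elY k) = elY (i + k) := by
  simp only [elY, sh_apply, pow_add, mul_inv_rev, mul_assoc]

theorem M_step {p q k : ℕ} (hp : p < 15) (hq : q < 15) (hM : M p = R (elY k))
    (h : evalWord mask amats [8, p] = evalWord mask amats [q, 8]) : M q = R (elY (k + 1)) := by
  have h := eq_of (u := [8, p]) (v := [q, 8]) (by simp [hp]) (by simp [hq]) h
  simp only [prod_one', prod_two, prod_three, prod_four, prod_six, prod_zero', M_eight, hM] at h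
  calc M q = M q * R (elG * elG⁻¹) := by rw [mul_inv_cancel, R_one, mul_one]
    _ = R (elG * elY k * elG⁻¹) := by rw [R_mul, ← mul_assoc, ← h, R_mul, R_mul]
    _ = R (elY (k + 1)) := by
      rw [show k + 1 = 1 + k by omega, ← sh_elY, sh_apply, pow_one]

theorem M_zeroY : M 9 = R (elY 0) := by
  rw [M_nine, elY, sh_apply, pow_zero, one_mul, inv_one, mul_one]

theorem M_oneY : M 11 = R (elY 1) := M_step (by norm_num) (by norm_num) M_zeroY conj1
theorem M_twoY : M 12 = R (elY 2) := M_step (by norm_num) (by norm_num) M_oneY conj2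
theorem M_threeY : M 13 = R (elY 3) := M_step (by norm_num) (by norm_num) M_twoY conj3
theorem M_fourY : M 14 = R (elY 4) := M_step (by norm_num) (by norm_num) M_threeY conj4

theorem elY_zero : elY 0 = elX := by
  rw [elY, sh_apply, pow_zero, one_mul, inv_one, mul_one]

section relations

variable (hinj : Function.Injective rho)
include hinj

theorem R_injective : Function.Injective R := fun _ _ h => hinj (Units.ext h)

theorem A_cube : elA * elA * elA = 1 := R_injective hinj (by
  have h := eq_of (u := [2, 2, 2, 2, 2, 2]) (v := []) (by decide) (by simp) a_cube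
  simp only [prod_one', prod_two, prod_three, prod_four, prod_six, prod_zero'] at h
  rw [R_one, R_mul, R_mul, ← prod_aa]
  simp only [mul_assoc]
  exact h)

theorem X_cube : elX * elX * elX = 1 := R_injective hinj (by
  have h := eq_one_of (u := [9, 9, 9]) (by decide) x_cube
  simp only [prod_one', prod_two, prod_three, prod_four, prod_six, prod_zero', M_nine] at h
  rw [R_one, R_mul, R_mul, mul_assoc]
  exact h)

theorem AX_sq : elA * elX * (elA * elX) = 1 := R_injective hinj (by
  have h := eq_one_of (u := [2, 2, 9, 2, 2, 9]) (by decide) ax_sq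
  simp only [prod_one', prod_two, prod_three, prod_four, prod_six, prod_zero', M_nine] at h
  rw [R_one, R_mul, R_mul, ← prod_aa]
  simp only [mul_assoc]
  exact h)

theorem GA : Commute elG elA := R_injective hinj (by
  have h := eq_of (u := [8, 2, 2]) (v := [2, 2, 8]) (by decide) (by decide) ga_comm
  simp only [prod_one', prod_two, prod_three, prod_four, prod_six, prod_zero', M_eight] at h
  rw [R_mul, R_mul, ← prod_aa, h]
  simp only [mul_assoc])

theorem G_nine : elG ^ 9 = 1 := by
  rw [show elG ^ 9 = elG * elG * elG * (elG * elG * elG * (elG * elG * elG)) by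
    simp only [pow_succ, pow_zero, one_mul, mul_assoc]]
  refine R_injective hinj ?_
  have h := eq_one_of (u := [10, 10, 10]) (by decide) g_nine
  simp only [prod_one', prod_two, prod_three, prod_four, prod_six, prod_zero', M_ten] at h
  rw [R_one, R_mul, R_mul (elG * elG * elG) (elG * elG * elG)]
  exact h

theorem XY_sq {q k : ℕ} (hq : q < 15) (hM : M q = R (elY k))
    (h : evalWord mask amats [9, q, 9, q] = idEnc) : elX * elY k * (elX * elY k) = 1 := R_injective hinj (by
  have h := eq_one_of (u := [9, q, 9, q]) (by simp [hq]) h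
  simp only [prod_one', prod_two, prod_three, prod_four, prod_six, prod_zero', M_nine, hM] at h
  rw [R_one, R_mul, R_mul, mul_assoc]
  exact h)

theorem XY_four {k : ℕ} (h1 : 1 ≤ k) (h4 : k ≤ 4) : elX * elY k * (elX * elY k) = 1 := by
  interval_cases k
  · exact XY_sq hinj (by norm_num) M_oneY pair1
  · exact XY_sq hinj (by norm_num) M_twoY pair2
  · exact XY_sq hinj (by norm_num) M_threeY pair3
  · exact XY_sq hinj (by norm_num) M_fourY pair4

theorem elY_nine : elY 9 = elX := by
  rw [elY, sh_apply, G_nine hinj, one_mul, inv_one, mul_one]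

omit hinj in
theorem sq_swap {u v : Spor.HN} (h : u * v * (u * v) = 1) : v * u * (v * u) = 1 := by
  calc v * u * (v * u) = u⁻¹ * (u * v * (u * v)) * u := by group
    _ = 1 := by rw [h, mul_one, inv_mul_cancel]

theorem X_pair {k : ℕ} (h1 : 1 ≤ k) (h8 : k ≤ 8) : elX * elY k * (elX * elY k) = 1 := by
  rcases Nat.lt_or_ge k 5 with h | h
  · exact XY_four hinj h1 (by omega)
  have e := congrArg (sh k) (XY_four hinj (k := 9 - k) (by omega) (by omega))
  simp only [map_mul, map_one, sh_elY] at e
  rw [show k + (9 - k) = 9 by omega, elY_nine hinj, show sh k elX = elY k from rfl] at e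
  exact sq_swap e

theorem Y_pair {i j : ℕ} (hij : i < j) (hj : j < 9) :
    elY i * elY j * (elY i * elY j) = 1 ∧ elY j * elY i * (elY j * elY i) = 1 := by
  have e := congrArg (sh i) (X_pair hinj (k := j - i) (by omega) (by omega))
  simp only [map_mul, map_one, sh_elY] at e
  rw [show i + (j - i) = j by omega, show sh i elX = elY i from rfl] at e
  exact ⟨e, sq_swap e⟩

theorem sh_A (k : ℕ) : sh k elA = elA := by
  rw [sh_apply, ((GA hinj).pow_left k).eq, mul_inv_cancel_right]

theorem A_Y (k : ℕ) : elA * elY k * (elA * elY k) = 1 ∧ elY k * elA * (elY k * elA) = 1 := by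
  have e := congrArg (sh k) (AX_sq hinj)
  simp only [map_mul, map_one, sh_A hinj] at e
  exact ⟨e, sq_swap e⟩

/-- The images of the three-cycles through two fixed points. -/
noncomputable def cycVal (i : Fin 12) : Spor.HN := if i.val = 9 then elA else elY i.val

theorem exists_altHom : ∃ f : alternatingGroup (Fin 12) →* Spor.HN, elA ∈ f.range := by
  have h3 : ∀ i ∈ (Finset.univ : Finset (Fin 12)), i ≠ 10 → i ≠ 11 → cycVal i * cycVal i * cycVal i = 1 := by
    intro i _ _ _
    rw [cycVal]
    split
    · exact A_cube hinj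
    · have e := congrArg (sh i.val) (X_cube hinj)
      simp only [map_mul, map_one] at e
      exact e
  have hp : ∀ i ∈ (Finset.univ : Finset (Fin 12)), ∀ j ∈ (Finset.univ : Finset (Fin 12)), i ≠ 10 → i ≠ 11 →
      j ≠ 10 → j ≠ 11 → i ≠ j → cycVal i * cycVal j * (cycVal i * cycVal j) = 1 := by
    intro i _ j _ hi hi' hj hj' hij
    have h1 : i.val ≤ 9 := by
      have := Fin.val_ne_of_ne hi; have := Fin.val_ne_of_ne hi'; have := i.isLt; simp at *; omega
    have h2 : j.val ≤ 9 := by
      have := Fin.val_ne_of_ne hj; have := Fin.val_ne_of_ne hj'; have := j.isLt; simp at *; omega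
    have h3 : i.val ≠ j.val := Fin.val_ne_of_ne hij
    rw [cycVal, cycVal]
    split <;> split
    · omega
    · exact (A_Y hinj _).1
    · exact (A_Y hinj _).2
    · rcases lt_or_gt_of_ne h3 with h | h
      · exact (Y_pair hinj h (by omega)).1
      · exact (Y_pair hinj h (by omega)).2
  obtain ⟨f, hf, hfy⟩ := exists_homOn (Finset.univ : Finset (Fin 12)) (A := 10) (B := 11) (Finset.mem_univ _)
    (Finset.mem_univ _) (by decide) cycVal h3 hp
  have hmem : ∀ x : alternatingGroup (Fin 12), (x : Equiv.Perm (Fin 12)) ∈ altOn (Finset.univ : Finset (Fin 12)) :=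
    fun x => by rw [altOn_univ]; exact x.2
  refine ⟨MonoidHom.mk' (fun x => f x.1) fun x y => hf _ (hmem x) _ (hmem y), ⟨⟨cyc 10 11 9, ?_⟩, ?_⟩⟩
  · rw [← altOn_univ]
    exact cyc_mem (by decide) (by decide) (by decide) (Finset.mem_univ _) (Finset.mem_univ _) (Finset.mem_univ _)
  · have e := hfy 9 (Finset.mem_univ _) (by decide) (by decide)
    exact e.trans (by simp [cycVal])

end relations

theorem elA_ne_one : elA ≠ 1 := fun e => a_ne (by
  have h : ([2, 2].map M).prod = (([] : List ℕ).map M).prod := by
    rw [← R_ev (by decide), show ev [2, 2] = (1 : Spor.HN) from e, R_one, prod_zero']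
  rw [show mask = HNRep.maskN 133 from rfl, HNRep.evalWord_eq fun x hx => rowsOK_amats (by
    simp only [List.mem_cons, List.not_mem_nil, or_false] at hx; omega)]
  rw [show (fun x => toMat 133 (amats x)) = M from rfl, h, prod_zero', HNRep.enc_one])

end CfsgLib.Sporadic.HNAlt
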